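import Cfsg.Agent.Omega.OM.LowT.Full
import Cfsg.Agent.Omega.OM.LowT.SetU
import Cfsg.Agent.Omega.OM.SWT.LowLev
import Cfsg.Agent.Omega.OM.Lev.Low.TorusK.Inst

/-!
# TORUS, `k ≥ 3`, over a general top level: the instances of `TK` and `BK` (helper607's frame)

Port of `OM/Lev/Low/TorusK/Inst.lean` from `SwapL.Ln` (top level `lev S n`) to `SWT.Ln` (top level `n : LV S`).
`stM`, `stY`, `fml_of`, `Loc` are those of `OM/Lev/Low/TorusK/Inst.lean`.

* `tk_of` : the instance of `TK`;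
* `Bk0` : the fields of the block of `R` (`Core.Blk`) which are used;
* `bk_of` : the instance of `BK`.
-/

set_option autoImplicit false
set_option linter.unusedSectionVars false

namespace Cfsg.Agent.Omega.OM.LowT.TorusK

open Subgroup Cfsg Cfsg.Agent.ZN.ChoiceBase Cfsg.Agent.ZN.ChoiceSit
open Cfsg.Agent.ZN (jj zj bau zc zl o2)
open Cfsg.Agent.Omega.OM.SWT (LV Ln ZT BT)
open Cfsg.Agent.Omega.NO3S.Level (lev lev_mono lev_isLev Lev lev_le BO nxt)
open Cfsg.Agent.Omega.NO3S.EThree.Frame (Bg)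
open Cfsg.Agent.Omega.OM.Lev.Low.SetS (S_norm_lev S_norm_zc S_norm_BL)
open Cfsg.Agent.Omega.FrameFF (cv)
open Cfsg.Agent.Omega.OM.Lev.Low.Line (Full)
open Cfsg.Agent.Omega.OM.LowT.Line (full_of_conj S_cent)
open Cfsg.Agent.Omega.OM.Lev.Low.TorusK (TK BK stM stY fml_of Loc)

open scoped commutatorElement

universe u

variable {G : Type u} [Group G] [Finite G]

section tk

variable {ι : Type} [Finite ι] {S : Sylow 2 G} {P : Subgroup G} {n : LV S} {L W Z C A : ι → Subgroup G}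

/-- **The instance of `TK`.** -/
theorem tk_of (hln : Ln P n L W Z C A 2) (hbg : Bg S P (BT n) (ZT n) L W Z C 2) {j : ℕ}
    (hj : lev (S : Subgroup G) j ≤ n.K) {z : G} (hz : z ∈ ZT n) (hzC : ∀ i, z ∉ C i)
    (hloc : Loc (S : Subgroup G) (BT n) (ZT n) (LevB.BL (S : Subgroup G) j) (zc (lev (S : Subgroup G) j)) Z z) :
    TK (S : Subgroup G) (BT n) (o2 P) (zl (S : Subgroup G) P) (zc n.K) (ZT n) (LevB.BL (S : Subgroup G) j)
      (zc (lev (S : Subgroup G) j)) (stM (S : Subgroup G) j) (stY (S : Subgroup G) j) L W Z C A z where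
  fr := hln.fr
  fml := fml_of S j
  two := S.isPGroup'
  BS := hbg.BS
  B0B := BL_le_BT hj
  SB := hbg.S_norm_B
  SB0 := S_norm_BL S j
  SX := S_norm_zc S j
  zB := LevB.zc_B S j
  VX := hln.fr.VX.trans ((lev_isLev (S : Subgroup G) j).zc_le_zc hj n.lev.le)
  XY := by
    cases j with
    | zero => exact le_top
    | succ m => exact (lev_isLev (S : Subgroup G) m).zc_le_zc (lev_mono _ (Nat.le_succ m)) (lev_le _ _)
  mX := fun s hs hc => mem_inf.2 ⟨hs, mem_centralizer_iff.2 fun x hx => (hc x hx).symm⟩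
  cQ := fun x hx hc => by
    have h1 := SWT.qv hln hbg.bau_two le_rfl (D := ⟨_, lev_isLev (S : Subgroup G) j⟩) hj
    exact (h1.mem x).2 ⟨hx, hc⟩
  SM := by
    cases j with
    | zero => exact le_top
    | succ m => exact S_norm_lev S m
  MY := by
    cases j with
    | zero =>
      show (⊤ : Subgroup G) ≤ normalizer (((⊤ : Subgroup G) : Subgroup G) : Set G)
      intro x _
      rw [mem_normalizer_iff]
      exact fun y => ⟨fun _ => mem_top _, fun _ => mem_top _⟩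
    | succ m => exact NO3S.Level.normalizer_le_zc _
  perm := fun s hs i => by
    obtain ⟨σ, hσ⟩ := hbg.perm_S hs
    exact ⟨σ i, hσ i⟩
  tr := hbg.trans
  wt := fun g z hz hg hf => full_of_conj hln hbg hz hg hf
  syl := hloc.syl
  loc1 := hloc.loc1
  loc2 := hloc.loc2
  zJ := hz
  zS := fun s hs => S_cent hln hbg hz hzC hs
  zC := hzC
  fact := hloc.fact

end tk

/-- **The block of `R`**: the fields of `Core.Blk` which are used. -/
structure Bk0 {ι : Type} {S : Sylow 2 G} (P : Subgroup G) (n : LV S) (L W Z C A : ι → Subgroup G) (R : Subgroup G)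
    (j : ℕ) (K N₁ c : Subgroup G) (τ : G) (l : ι) : Prop where
  ln : Ln P n L W Z C A 2
  bg : Bg S P (BT n) (ZT n) L W Z C 2
  jn : lev (S : Subgroup G) j ≤ n.K
  syl : Syl (BT n) R
  low : ∀ i < j, lev (S : Subgroup G) i ≤ o2 R
  KR : K ≤ R
  pb : PB (LevB.BL (S : Subgroup G) j) K (zl (BT n) R) N₁ (cv (BT n) R) 4
  nK : BT n ≤ normalizer ((⁅zl (BT n) R, K⁆ : Subgroup G) : Set G)
  act : ∀ t ∈ BT n, ∀ k ∈ K, ∃ k' ∈ K, ∀ v ∈ zl (BT n) R,
    t * k * t⁻¹ * v * (t * k * t⁻¹)⁻¹ = k' * v * k'⁻¹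
  cN1 : c ≤ N₁
  cD : c ⊓ cv (BT n) R = ⊥
  τK : τ ∈ K
  τB0 : τ ∈ normalizer (LevB.BL (S : Subgroup G) j : Set G)
  τc : cj τ c = c
  τ1 : ∀ x ∈ c, τ * x * τ⁻¹ = x → x = 1
  /-- `B` normalises `C_X(K)` -/
  fixN : ∀ b ∈ BT n, cj b (zc (lev (S : Subgroup G) j) ⊓ centralizer (K : Set G)) =
    zc (lev (S : Subgroup G) j) ⊓ centralizer (K : Set G)
  /-- (L) -/
  cW : c = W l
  WK : ∀ m, m ≠ l → W m ≤ centralizer (K : Set G)

section bk

variable {ι : Type} {S : Sylow 2 G} {P : Subgroup G} {n : LV S} {L W Z C A : ι → Subgroup G} {R : Subgroup G}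
  {j : ℕ} {K N₁ c : Subgroup G} {τ : G} {l : ι}

/-- `R` normalises the levels `< j` -/
theorem R_norm (h : Bk0 P n L W Z C A R j K N₁ c τ l) {m : ℕ} (hm : m < j) :
    R ≤ normalizer (lev (S : Subgroup G) m : Set G) :=
  (lev_isLev (S : Subgroup G) m).le_norm_of_o2 (h.low m hm) ((o2_le_syl h.syl).trans h.bg.BS)

/-- `⟨Ω₁Z(B)^R⟩ ≤ Ω₁Z(lev S m)`, `m < j` -/
theorem zl_le_lev (h : Bk0 P n L W Z C A R j K N₁ c τ l) {m : ℕ} (hm : m < j) :
    zl (BT n) R ≤ zc (lev (S : Subgroup G) m) := by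
  have h1 : zc (BT n) ≤ zc (lev (S : Subgroup G) m) := by
    have h2 : zc (BT n) = ZT n := h.ln.fr.zcB
    rw [h2]
    exact (lev_isLev (S : Subgroup G) m).zc_le_zc ((lev_mono _ hm.le).trans (h.jn.trans n.K_le_nx)) n.lev.next.le
  refine iSup_le fun g => ?_
  have h2 := (R_norm h hm).trans (NO3S.Level.normalizer_le_zc _)
  have h3 := cj_mono (g : G) h1
  rwa [cj_eq_of_mem_normalizer (h2 g.2)] at h3

/-- **The instance of `BK`.** -/
theorem bk_of (h : Bk0 P n L W Z C A R j K N₁ c τ l) :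
    BK (BT n) (LevB.BL (S : Subgroup G) j) (zc (lev (S : Subgroup G) j)) (stM (S : Subgroup G) j)
      (stY (S : Subgroup G) j) W l K (zl (BT n) R) N₁ (cv (BT n) R) where
  pb := h.pb
  NY := by
    cases j with
    | zero => exact le_top
    | succ m => exact zl_le_lev h (Nat.lt_succ_self m)
  KM := by
    cases j with
    | zero => exact le_top
    | succ m => exact h.KR.trans (R_norm h (Nat.lt_succ_self m))
  WN := h.cW ▸ h.cN1
  WN0 := h.cW ▸ h.cD
  cW := fun p hp w hw k hk => mem_centralizer_iff.1 (h.WK p hp hw) k hk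
  BX := fun b hb => mem_normalizer_iff_cj.2 (h.fixN b hb)
  tor := by
    refine ⟨τ, h.τK, h.τB0, fun w hw => ?_, fun w hw => h.τ1 w (h.cW ▸ hw)⟩
    rw [← h.cW] at hw ⊢
    have h1 : τ * w * τ⁻¹ ∈ cj τ c := ⟨w, hw, rfl⟩
    rwa [h.τc] at h1

end bk

end Cfsg.Agent.Omega.OM.LowT.TorusK
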