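import Cfsg.Agent.Omega.OM.Lev.Low.TorusK.LocIn
import Cfsg.Agent.Omega.OM.LowT.Full
import Cfsg.Agent.Omega.OM.LowT.SetU

/-!
# TORUS, `q = 2`, `k ≥ 2`: the local inputs of the frame of helper607 #23961 from `SWT.Ln` + `Bg`

Port of `OM/Lev/Low/TorusK/LocIn.lean` to a general top level `n : LV S`.

* `syl` : `B` is a Sylow 2-subgroup of `C_G(Z p : p ≠ l)`;
* `loc1`, `loc2` : `E = Ω₁Z(O₂(C_G(Z p : p ≠ l, m)))` is elementary abelian, `Z_J ≤ E ≤ B`, normalised by this centraliser;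
* `exists_z` : `Ω₁Z(S) = {1, z}`, `z ∈ Z_J` of full support;
* `fact` : a local `H ≥ S` is generated by `N_H(Ω₁Z(lev S j))` and `C_H(z)`.
-/

set_option autoImplicit false
set_option linter.unusedSectionVars false

namespace Cfsg.Agent.Omega.OM.LowT.TorusK.LocIn

open Subgroup Cfsg Cfsg.Agent.ZN.ChoiceBase Cfsg.Agent.ZN.ChoiceSit
open Cfsg.Agent.ZN (jj zj bau zc zl o2)
open Cfsg.Agent.Omega.MinPar (IsLoc IsPar IsParS)
open Cfsg.Agent.Omega.OM.Lev.Uni (FrL)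
open Cfsg.Agent.Omega.OM.SWT (Ln LV)
open Cfsg.Agent.Omega.OM.Lev.Low.TorusK.LocIn (third mem_B0 isLoc_of)
open Cfsg.Agent.Omega.NO3S.EThree.Frame (Bg)
open Cfsg.Agent.Omega.NO3S.Level (lev lev_mono lev_isLev lev_le)
open Cfsg.Agent.Omega.OM.Lev.Low.Line (Full)
open Cfsg.Agent.Omega.EK3.Q.Loc (YI CI mem_YI mem_CI)

universe u

variable {G : Type u} [Group G] [Finite G] {ι : Type} [Finite ι] {S : Sylow 2 G} {P : Subgroup G} {n : LV S}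
  {L W Z C A : ι → Subgroup G}

/-- An element of `N_G(B)` which centralises `Z p` for all `p ≠ l` centralises `Z_J`. -/
theorem mem_cent (hL : Ln P n L W Z C A 2)
    (hB : Bg S P (SWT.BT n) (SWT.ZT n) L W Z C 2) {l : ι} {t : G}
    (ht : t ∈ normalizer (SWT.BT n : Set G))
    (hc : ∀ p, p ≠ l → ∀ x ∈ Z p, t * x = x * t) : t ∈ centralizer (SWT.ZT n : Set G) := by
  obtain ⟨j, hj, -, -⟩ := LowT.perm hL ht l
  have hjl : j = l := by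
    by_contra hne
    have h1 : cj t (Z j) = Z j := by
      have h2 : t ∈ centralizer (Z j : Set G) := mem_centralizer_iff.2 fun x hx => (hc j hne x hx).symm
      exact cj_eq_of_mem_normalizer (centralizer_le_normalizer _ h2)
    have h2 := hj.trans h1.symm
    have h3 := congrArg (cj t⁻¹) h2
    rw [cj_inv_cj, cj_inv_cj] at h3
    exact hne (LowT.Z_inj hL h3).symm
  rw [hjl] at hj
  have hl : ∀ z ∈ Z l, z * t = t * z := fun z hz => (LowT.cent_of_cj hL hj hz).symm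
  exact EK3.Q.Loc.mem_D hB (i := l) (j := l) (mem_CI.2 fun p hp _ z hz => (hc p hp z hz).symm) hl hl

/-- **(syl)** `B` is a Sylow 2-subgroup of `C_G(Z p : p ≠ l)`. -/
theorem syl (hL : Ln P n L W Z C A 2)
    (hB : Bg S P (SWT.BT n) (SWT.ZT n) L W Z C 2) :
    ∀ (l : ι) (T : Subgroup G), IsPGroup 2 T → SWT.BT n ≤ T →
      (∀ p, p ≠ l → T ≤ centralizer (Z p : Set G)) → T ≤ SWT.BT n := by
  intro l T hT hBT hc
  refine EK3.Q.Loc.le_B_of hB hT (fun t ht => ?_) (hBT.trans le_normalizer)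
  exact mem_cent hL hB (l := l) (hB.le_norm_B hT hBT ht) fun p hp x hx =>
    (mem_centralizer_iff.1 (hc p hp ht) x hx).symm

/-- **(loc2)**, strong form: `E = Ω₁Z(O₂(C_G(Z p : p ≠ l, m)))`. -/
theorem loc2' (hB : Bg S P (SWT.BT n) (SWT.ZT n) L W Z C 2) {l m r : ι} (hl : r ≠ l)
    (hm : r ≠ m) : ∃ E : Subgroup G, IsElementaryAbelian 2 E ∧ E ≤ SWT.BT n ∧
      SWT.ZT n ≤ E ∧ ∀ g : G, (∀ p, p ≠ l → p ≠ m → ∀ x ∈ Z p, g * x = x * g) →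
        g ∈ normalizer (E : Set G) := by
  refine ⟨zc (o2 (CI Z l m)), NO3S.OneLine.zc_elem _, (zc_le _).trans (EK3.Q.Loc.o2CI_le_B hB l m),
    EK3.Q.Loc.ZJ_le_zc hB hl hm, fun g hg => EK3.Q.Loc.le_normalizer_zc_o2 hB _ ?_⟩
  exact mem_CI.2 fun p hp hp' z hz => (hg p hp hp' z hz).symm

/-- **(loc1)** -/
theorem loc1 (hB : Bg S P (SWT.BT n) (SWT.ZT n) L W Z C 2) :
    ∀ l : ι, ∃ E : Subgroup G, IsElementaryAbelian 2 E ∧ E ≤ SWT.BT n ∧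
      SWT.ZT n ≤ E ∧ ∀ g : G, (∀ p, p ≠ l → ∀ x ∈ Z p, g * x = x * g) →
        g ∈ normalizer (E : Set G) := by
  intro l
  obtain ⟨r, hr⟩ := hB.two l
  obtain ⟨E, h1, h2, h3, h4⟩ := loc2' hB hr hr
  exact ⟨E, h1, h2, h3, fun g hg => h4 g fun p hp _ => hg p hp⟩

/-- **(loc2)**: `k ≥ 3`. -/
theorem loc2 (hB : Bg S P (SWT.BT n) (SWT.ZT n) L W Z C 2)
    (h3 : ∀ l m : ι, ∃ r, r ≠ l ∧ r ≠ m) :
    ∀ l m : ι, l ≠ m → ∃ E : Subgroup G, IsElementaryAbelian 2 E ∧ E ≤ (S : Subgroup G) ∧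
      (∀ x ∈ Z l, ∀ y ∈ Z m, x ≠ 1 → y ≠ 1 → x * y ∈ E) ∧
      ∀ g : G, (∀ p, p ≠ l → p ≠ m → ∀ x ∈ Z p, g * x = x * g) → g ∈ normalizer (E : Set G) := by
  intro l m _
  obtain ⟨r, hl, hm⟩ := h3 l m
  obtain ⟨E, h1, h2, h4, h5⟩ := loc2' hB hl hm
  exact ⟨E, h1, h2.trans hB.BS, fun x hx y hy _ _ =>
    mul_mem (h4 (hB.fr.Z_le l hx)) (h4 (hB.fr.Z_le m hy)), h5⟩

/-- `B_j = C_S(Ω₁Z(lev S j)) ≤ B` -/
theorem BL_le {j : ℕ} (hj : lev (S : Subgroup G) j ≤ n.K) : LevB.BL (S : Subgroup G) j ≤ SWT.BT n := BL_le_BT hj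

omit [Finite ι] in
/-- `Ω₁Z(S) ≤ Z_J` -/
theorem zc_le_ZJ (hB : Bg S P (SWT.BT n) (SWT.ZT n) L W Z C 2) :
    zc (S : Subgroup G) ≤ SWT.ZT n := by
  intro x hx
  obtain ⟨h1, h2, h3⟩ := ZN.ChoiceBase.mem_zc.1 hx
  have hZB : SWT.ZT n ≤ SWT.BT n := hB.fr.ZJV.trans hB.fr.VB
  have hxB : x ∈ SWT.BT n := hB.mem_B h1 fun z hz => (h3 z (hB.BS (hZB hz))).symm
  rw [← hB.fr.zcB]
  exact ZN.ChoiceBase.mem_zc.2 ⟨hxB, h2, fun y hy => h3 y (hB.BS hy)⟩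

/-- **`Ω₁Z(S) = {1, z}`**, `z ∈ Z_J` of full support. -/
theorem exists_z (hL : Ln P n L W Z C A 2)
    (hB : Bg S P (SWT.BT n) (SWT.ZT n) L W Z C 2) :
    ∃ z ∈ SWT.ZT n, Full C z ∧ z ≠ 1 ∧ z ∈ zc (S : Subgroup G) ∧
      ∀ x ∈ zc (S : Subgroup G), x ≠ 1 → x = z := by
  obtain ⟨z, hz, hf⟩ := Lev.Low.Line.exists_full hL.fr
  have hne : ∃ i : ι, True := by
    by_contra hcon
    push Not at hcon
    have hι : ∀ i : ι, False := fun i => hcon i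
    have h1 := hL.hyp.zc_ne
    apply h1
    rw [eq_bot_iff]
    intro x hx
    rw [mem_bot]
    exact hB.fr.C0 x (hB.fr.ZJV (zc_le_ZJ hB hx)) fun i => (hι i).elim
  obtain ⟨i₀, -⟩ := hne
  have hz1 : z ≠ 1 := by
    rintro rfl
    exact hf i₀ (one_mem _)
  refine ⟨z, hz, hf, hz1, ?_, fun x hx hx1 => ?_⟩
  · exact ZN.ChoiceBase.mem_zc.2 ⟨hB.BS (hB.fr.VB (hB.fr.ZJV hz)), hB.fr.Vsq (hB.fr.ZJV hz),
      fun s hs => Line.S_cent hL hB hz hf hs⟩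
  · have hxJ := zc_le_ZJ hB hx
    have hxs := (ZN.ChoiceBase.mem_zc.1 hx).2.2
    refine Lev.Low.Line.full_unique hL.fr hxJ hz (fun j hj => hx1 ?_) hf
    refine hB.fr.C0 x (hB.fr.ZJV hxJ) fun i => ?_
    obtain ⟨s, hs, e⟩ := hB.trans j i
    obtain ⟨σ, hσ⟩ := hB.perm_S hs
    have h1 : σ j = i := hB.W_inj ((hσ j).1.symm.trans e)
    have h2 : s * x * s⁻¹ ∈ cj s (C j) := ⟨x, hj, rfl⟩
    rw [(hσ j).2.2, h1, hxs s hs, mul_inv_cancel_right] at h2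
    exact h2

/-- **(fact)**, for any `z` with `Ω₁Z(S) = {1, z}`. -/
theorem fact' (S : Sylow 2 G) {H : Subgroup G} (hH : IsLoc (S : Subgroup G) H) {n : LV S} {j : ℕ}
    (hj : lev (S : Subgroup G) j ≤ n.K) (hall : ∀ R, IsParS (S : Subgroup G) R → n.K ≤ o2 R) {z : G} (hz : z ∈ zc (S : Subgroup G))
    (hz1 : z ≠ 1) (hzS : ∀ x ∈ zc (S : Subgroup G), x ≠ 1 → x = z) :
    H ≤ (H ⊓ normalizer (zc (lev (S : Subgroup G) j) : Set G)) ⊔ (H ⊓ centralizer ({z} : Set G)) := by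
  have hlv := lev_isLev (S : Subgroup G) j
  refine hH.le_of_forall S ?_ fun Y hY hYH => ?_
  · refine le_trans (le_inf inf_le_left fun g hg => ?_) le_sup_left
    exact NO3S.Level.normalizer_le_zc _ (hlv.norm _ hlv.le le_rfl hg.2)
  · by_cases hZ : Y ≤ normalizer (zc (S : Subgroup G) : Set G)
    · refine le_trans (le_inf hYH fun g hg => ?_) le_sup_right
      rw [mem_centralizer_singleton_iff]
      have h1 : g * z * g⁻¹ ∈ zc (S : Subgroup G) := (mem_normalizer_iff.1 (hZ hg) z).1 hz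
      have h2 := hzS _ h1 fun e => hz1 (conj_eq_one_iff.1 e)
      exact mul_inv_eq_iff_eq_mul.1 h2
    · refine le_trans (le_inf hYH ?_) le_sup_left
      have h1 := hall Y ⟨hY, hZ⟩
      exact (hlv.le_norm_of_o2 (hj.trans h1) (hY.isLoc.o2_le S)).trans (NO3S.Level.normalizer_le_zc _)

/-- **(fact)** -/
theorem fact (hL : Ln P n L W Z C A 2)
    (hB : Bg S P (SWT.BT n) (SWT.ZT n) L W Z C 2)
    (hall : ∀ R, IsParS (S : Subgroup G) R → n.K ≤ o2 R) :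
    ∃ z ∈ SWT.ZT n, Full C z ∧ z ≠ 1 ∧ z ∈ zc (S : Subgroup G) ∧
      (∀ x ∈ zc (S : Subgroup G), x ≠ 1 → x = z) ∧
      ∀ H : Subgroup G, (S : Subgroup G) ≤ H → (∃ U : Subgroup G, U ≠ ⊥ ∧ IsPGroup 2 U ∧ H ≤ normalizer (U : Set G)) →
        ∀ j, lev (S : Subgroup G) j ≤ n.K → H ≤ (H ⊓ normalizer (zc (lev (S : Subgroup G) j) : Set G)) ⊔ (H ⊓ centralizer ({z} : Set G)) := by
  obtain ⟨z, hz, hf, hz1, hzS, hu⟩ := exists_z hL hB
  refine ⟨z, hz, hf, hz1, hzS, hu, fun H hH hU j hj => ?_⟩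
  obtain ⟨U, hU1, hU2, hU3⟩ := hU
  exact fact' S (isLoc_of S hH hU1 hU2 hU3) hj hall hzS hz1 hu

end Cfsg.Agent.Omega.OM.LowT.TorusK.LocIn
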